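import Cfsg.Agent.H24.MX.Top
import Cfsg.Agent.H520.MX.Fin

/-!
# S3509 MIX: the input M4 of `mix_of_out`, all `q` (helper24)

`m4_all` : M4 for simply laced types with `oddChk D l = true` (`E₆`, `E₇`, `E₈`: `m4_E6`, `m4_E7`, `m4_E8`).
-/

set_option autoImplicit false
set_option linter.unusedSectionVars false

namespace Cfsg.Agent.H24.MX

open CoxeterSystem Cfsg Cfsg.Lie Cfsg.Lie.ChevalleyDatum
open Cfsg.Agent.ChevalleyStructure Cfsg.Agent.ChevalleyStructure.Elts Cfsg.Agent.ChevalleyStructure.CoxeterGeom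
  Cfsg.Agent.ChevalleyStructure.CoxeterGeomTypes Cfsg.Agent.ChevalleyStructure.NPerm
open Cfsg.Agent.Tits.Roots Cfsg.Agent.Tits.Core Cfsg.Agent.Nodes Cfsg.Agent.Nodes.Reps Cfsg.Agent.Nodes.BNOf
  Cfsg.Agent.Nodes.RGDChev Cfsg.Agent.Nodes.Coroot
open Cfsg.Agent.KFacts.RgdField Cfsg.Agent.KFacts.RgdChevCoord Cfsg.Agent.KFacts.RgdSL
open Cfsg.Agent.BpExc Cfsg.Agent.BpExc.LangFr
open Cfsg.Agent.H469.Exc Cfsg.Agent.H316.U6 Cfsg.Agent.H129.TorusChar Cfsg.Agent.H380.RC Cfsg.Agent.H520.MX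
  Cfsg.Agent.H169.RG

variable {D : ChevalleyDatum} {l : ℕ} {M : CoxeterMatrix (Fin l)} {hp : IsType D l M} {p q : ℕ} [hr : Fact p.Prime]
  {K₀ : Type} [Group K₀]

/-- **M4**, simply laced. -/
theorem m4_all (h4 : ∀ i j, M i j ≠ 4) (h6 : ∀ i j, M i j ≠ 6) (hodd : oddChk D l = true) (m : MData hp p q K₀)
    {s : ↥(D.group (KK p))} (f : TorForm m s) : M4 m f := by
  intro a ha γ hγ hper ho c hc hoc τ hτ hα hcX lam hlam
  have := finite_W hp M.toCoxeterSystem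
  obtain ⟨lam', hlam', hinv'⟩ := exists_lam (cs := M.toCoxeterSystem) (h := hp.isCartan) f.fr.root hγ (by omega : 0 < a) hper
  have hinv : ∀ x, lam (f.θ x) = lam x := fun x => by
    rw [hlam, ← hlam', hinv', hlam', ← hlam]
  refine (UF_le_cmm_orb (hp := hp) h4 h6 m f.lang f.fr ha (fun _ => hodd) hγ hper ho
    (fun x y _ hy => cpr_theta f.fr.root x hy) hc hoc hτ hα (fun b hb => ?_) hlam hinv).1
  rw [hcX b hb]
  have h2 : ∀ s : Finset ℕ, ∀ e : ℕ → ℤ, ∏ i ∈ s, c ^ ((q : ℤ) ^ i * e i) = c ^ (∑ i ∈ s, (q : ℤ) ^ i * e i) := by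
    intro s e
    induction s using Finset.induction_on with
    | empty => simp
    | insert b s hb ih => rw [Finset.prod_insert hb, Finset.sum_insert hb, zpow_add₀ hc, ih]
  exact (h2 _ _).symm

theorem oddChk_E (hD : 60 ≤ D.nroots) (hp : IsType D l M) : oddChk D l = true := by
  simp only [IsType, typeList, List.mem_cons, List.not_mem_nil, or_false, Prod.mk.injEq, Sigma.mk.injEq] at hp
  rcases hp with ⟨rfl, rfl, -⟩ | ⟨rfl, rfl, -⟩ | ⟨rfl, rfl, -⟩ | ⟨rfl, rfl, -⟩ | ⟨rfl, rfl, -⟩ | ⟨rfl, rfl, -⟩ |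
    ⟨rfl, rfl, -⟩
  · exfalso; revert hD; decide +kernel
  · exfalso; revert hD; decide +kernel
  · exfalso; revert hD; decide +kernel
  · exfalso; revert hD; decide +kernel
  · exact oddChk_E6
  · exact oddChk_E7
  · exact oddChk_E8

/-- **M4** for `E₆, E₇, E₈`, the input `hM4` of `mix_of_out`. -/
theorem m4_E (hD : 60 ≤ D.nroots) (m : MData hp p q K₀) : ∀ s, ∀ f : TorForm m s, M4 m f := fun _ f =>
  m4_all (h46_E hD hp).1 (h46_E hD hp).2 (oddChk_E hD hp) m f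

end Cfsg.Agent.H24.MX
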